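import Mathlib
import Cfsg.Agent.Lib.Helper23.OHyp.Defs

/-!
# OHYP (S5992), package [INVOL]: an involution of `O(Q)` fixes a hyperbolic `m`-space

`pkgInvol_of (hPerp : PkgPerp) (hSum : PkgSum) : PkgInvol`.

Proof: peel off three pairwise orthogonal eigenvectors `w₁, w₂, w₃` of `x` with `Q ≠ 0` (an
invariant nondegenerate subspace `≠ ⊥` contains such an eigenvector; PERP splits it off); two of
them, `y₁, y₂`, have the same eigenvalue, `u` is the third.  Inside the orthogonal complement take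
an invariant nondegenerate `A` of dimension `m - 2` (peeling again).  The plane `span {y₁, y₂}` is
universal, so there is `v` in it with `Q v` in a prescribed square class; `P = span {u, v}` is an
invariant nondegenerate plane of the type of `A`, and `W = A ⊕ P` is hyperbolic by SUM.
-/

set_option autoImplicit false
set_option linter.unusedSectionVars false

namespace Cfsg.Agent.Lib.Helper52.OHyp

open Matrix Cfsg.Agent.Lib.Helper23.OHyp

universe u

section basics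

variable {F : Type u} [Field F] {ι : Type} [Fintype ι] [DecidableEq ι] {Q : (ι → F) → F}

theorem pol_add_left (hQ : Cfsg.Geo.IsNondegenerateQuadraticForm Q) (a b c : ι → F) :
    QuadraticMap.polar Q (a + b) c = QuadraticMap.polar Q a c + QuadraticMap.polar Q b c :=
  hQ.polar_bilinear.add_left a b c

theorem pol_smul_left (hQ : Cfsg.Geo.IsNondegenerateQuadraticForm Q) (k : F) (a c : ι → F) :
    QuadraticMap.polar Q (k • a) c = k * QuadraticMap.polar Q a c :=
  hQ.polar_bilinear.smul_left k a c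

theorem pol_add_right (hQ : Cfsg.Geo.IsNondegenerateQuadraticForm Q) (a b c : ι → F) :
    QuadraticMap.polar Q a (b + c) = QuadraticMap.polar Q a b + QuadraticMap.polar Q a c :=
  hQ.polar_bilinear.add_right a b c

theorem pol_smul_right (hQ : Cfsg.Geo.IsNondegenerateQuadraticForm Q) (k : F) (a c : ι → F) :
    QuadraticMap.polar Q a (k • c) = k * QuadraticMap.polar Q a c :=
  hQ.polar_bilinear.smul_right k a c

theorem pol_comm (a b : ι → F) : QuadraticMap.polar Q a b = QuadraticMap.polar Q b a :=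
  QuadraticMap.polar_comm Q a b

theorem Q_add (Q : (ι → F) → F) (a b : ι → F) : Q (a + b) = Q a + Q b + QuadraticMap.polar Q a b := by
  unfold QuadraticMap.polar; ring

theorem Q_zero (hQ : Cfsg.Geo.IsNondegenerateQuadraticForm Q) : Q 0 = 0 := by
  have := hQ.smul 0 0
  simpa using this

theorem pol_self (hQ : Cfsg.Geo.IsNondegenerateQuadraticForm Q) (a : ι → F) :
    QuadraticMap.polar Q a a = 2 * Q a := by
  have h := hQ.smul 2 a
  have h2 : (2 : F) • a = a + a := two_smul F a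
  rw [h2] at h
  unfold QuadraticMap.polar
  rw [h]; ring

theorem pol_neg_right (hQ : Cfsg.Geo.IsNondegenerateQuadraticForm Q) (a b : ι → F) :
    QuadraticMap.polar Q a (-b) = -QuadraticMap.polar Q a b := by
  have := hQ.polar_bilinear.smul_right (-1) a b
  simpa using this

theorem pol_neg_left (hQ : Cfsg.Geo.IsNondegenerateQuadraticForm Q) (a b : ι → F) :
    QuadraticMap.polar Q (-a) b = -QuadraticMap.polar Q a b := by
  have := hQ.polar_bilinear.smul_left (-1) a b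
  simpa using this

theorem pol_sub_right (hQ : Cfsg.Geo.IsNondegenerateQuadraticForm Q) (a b c : ι → F) :
    QuadraticMap.polar Q a (b - c) = QuadraticMap.polar Q a b - QuadraticMap.polar Q a c := by
  rw [sub_eq_add_neg, pol_add_right hQ, pol_neg_right hQ, sub_eq_add_neg]

theorem pol_sub_left (hQ : Cfsg.Geo.IsNondegenerateQuadraticForm Q) (a b c : ι → F) :
    QuadraticMap.polar Q (a - b) c = QuadraticMap.polar Q a c - QuadraticMap.polar Q b c := by
  rw [sub_eq_add_neg, pol_add_left hQ, pol_neg_left hQ, sub_eq_add_neg]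

theorem pol_zero_right (hQ : Cfsg.Geo.IsNondegenerateQuadraticForm Q) (a : ι → F) :
    QuadraticMap.polar Q a 0 = 0 := by
  unfold QuadraticMap.polar
  rw [add_zero, Q_zero hQ]; ring

theorem pol_isom (X : Matrix ι ι F) (hX : ∀ v, Q (X *ᵥ v) = Q v) (a b : ι → F) :
    QuadraticMap.polar Q (X *ᵥ a) (X *ᵥ b) = QuadraticMap.polar Q a b := by
  unfold QuadraticMap.polar
  rw [← Matrix.mulVec_add, hX, hX, hX]

theorem inv_mem' {X : Matrix ι ι F} {W : Submodule F (ι → F)} (h : Helper23.OHyp.Inv X W) {w : ι → F}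
    (hw : w ∈ W) : X *ᵥ w ∈ W := by
  apply h
  exact ⟨w, hw, by rw [Matrix.toLin'_apply]⟩

theorem inv_of_mem {X : Matrix ι ι F} {W : Submodule F (ι → F)}
    (h : ∀ w ∈ W, X *ᵥ w ∈ W) : Helper23.OHyp.Inv X W := by
  rintro _ ⟨w, hw, rfl⟩
  rw [Matrix.toLin'_apply]
  exact h w hw

theorem inv_sup {X : Matrix ι ι F} {A C : Submodule F (ι → F)} (hA : Helper23.OHyp.Inv X A) (hC : Helper23.OHyp.Inv X C) :
    Helper23.OHyp.Inv X (A ⊔ C) := by
  unfold Helper23.OHyp.Inv at *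
  rw [Submodule.map_sup]
  exact sup_le_sup hA hC

theorem inv_bot (X : Matrix ι ι F) : Helper23.OHyp.Inv X (⊥ : Submodule F (ι → F)) := by
  unfold Helper23.OHyp.Inv
  rw [Submodule.map_bot]

theorem inv_top (X : Matrix ι ι F) : Helper23.OHyp.Inv X (⊤ : Submodule F (ι → F)) := le_top

theorem nd_bot : Nd Q (⊥ : Submodule F (ι → F)) := by
  intro w hw hw0
  exact absurd ((Submodule.mem_bot F).mp hw) hw0

theorem plus_bot (hQ : Cfsg.Geo.IsNondegenerateQuadraticForm Q) :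
    Plus Q (⊥ : Submodule F (ι → F)) := by
  refine ⟨⊥, le_rfl, ?_, by simp⟩
  intro w hw
  rw [(Submodule.mem_bot F).mp hw]
  exact Q_zero hQ

/-- A line spanned by an eigenvector of nonzero norm. -/
theorem line_facts (hQ : Cfsg.Geo.IsNondegenerateQuadraticForm Q) (h2 : (2 : F) ≠ 0)
    (X : Matrix ι ι F) {w : ι → F} (hw : Q w ≠ 0) (he : X *ᵥ w = w ∨ X *ᵥ w = -w) :
    Helper23.OHyp.Inv X (Submodule.span F {w}) ∧ Nd Q (Submodule.span F {w}) ∧
      Module.finrank F (Submodule.span F {w}) = 1 := by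
  have hw0 : w ≠ 0 := by
    rintro rfl
    exact hw (Q_zero hQ)
  refine ⟨?_, ?_, finrank_span_singleton hw0⟩
  · apply inv_of_mem
    intro y hy
    obtain ⟨c, rfl⟩ := Submodule.mem_span_singleton.mp hy
    rw [Matrix.mulVec_smul]
    rcases he with he | he
    · rw [he]
      exact Submodule.smul_mem _ _ (Submodule.mem_span_singleton_self w)
    · rw [he]
      exact Submodule.smul_mem _ _ (Submodule.neg_mem _ (Submodule.mem_span_singleton_self w))
  · intro y hy hy0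
    obtain ⟨c, rfl⟩ := Submodule.mem_span_singleton.mp hy
    have hc : c ≠ 0 := by
      rintro rfl
      exact hy0 (zero_smul _ _)
    have hne : c * (2 * Q w) ≠ 0 := mul_ne_zero hc (mul_ne_zero h2 hw)
    refine ⟨⟨w, Submodule.mem_span_singleton_self w, ?_⟩,
      ⟨w, Submodule.mem_span_singleton_self w, ?_⟩⟩
    · rw [pol_smul_right hQ, pol_self hQ]; exact hne
    · rw [pol_smul_left hQ, pol_self hQ]; exact hne

/-- An invariant nondegenerate subspace `≠ ⊥` contains an eigenvector of nonzero norm. -/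
theorem exists_eigen (hQ : Cfsg.Geo.IsNondegenerateQuadraticForm Q) (h2 : (2 : F) ≠ 0)
    (X : Matrix ι ι F) (hX : ∀ v, Q (X *ᵥ v) = Q v) (hXX : X * X = 1)
    (U : Submodule F (ι → F)) (hI : Helper23.OHyp.Inv X U) (hN : Nd Q U) (hU : U ≠ ⊥) :
    ∃ w ∈ U, Q w ≠ 0 ∧ (X *ᵥ w = w ∨ X *ᵥ w = -w) := by
  by_contra hcon
  push Not at hcon
  have hxx : ∀ w, X *ᵥ (X *ᵥ w) = w := fun w => by
    rw [Matrix.mulVec_mulVec, hXX, Matrix.one_mulVec]
  have hp : ∀ w ∈ U, Q (w + X *ᵥ w) = 0 := by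
    intro w hw
    by_contra h
    have := (hcon (w + X *ᵥ w) (U.add_mem hw (inv_mem' hI hw)) h).1
    apply this
    rw [Matrix.mulVec_add, hxx, add_comm]
  have hm : ∀ w ∈ U, Q (w - X *ᵥ w) = 0 := by
    intro w hw
    by_contra h
    have := (hcon (w - X *ᵥ w) (U.sub_mem hw (inv_mem' hI hw)) h).2
    apply this
    rw [Matrix.mulVec_sub, hxx, neg_sub]
  have hpp : ∀ a ∈ U, ∀ b ∈ U, QuadraticMap.polar Q (a + X *ᵥ a) (b + X *ᵥ b) = 0 := by
    intro a ha b hb
    have h1 := hp (a + b) (U.add_mem ha hb)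
    rw [Matrix.mulVec_add] at h1
    have h3 : a + b + (X *ᵥ a + X *ᵥ b) = (a + X *ᵥ a) + (b + X *ᵥ b) := by abel
    unfold QuadraticMap.polar
    rw [← h3, h1, hp a ha, hp b hb]; ring
  have hmm : ∀ a ∈ U, ∀ b ∈ U, QuadraticMap.polar Q (a - X *ᵥ a) (b - X *ᵥ b) = 0 := by
    intro a ha b hb
    have h1 := hm (a + b) (U.add_mem ha hb)
    rw [Matrix.mulVec_add] at h1
    have h3 : a + b - (X *ᵥ a + X *ᵥ b) = (a - X *ᵥ a) + (b - X *ᵥ b) := by abel
    unfold QuadraticMap.polar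
    rw [← h3, h1, hm a ha, hm b hb]; ring
  have hpm : ∀ a ∈ U, ∀ b ∈ U, QuadraticMap.polar Q (a + X *ᵥ a) (b - X *ᵥ b) = 0 := by
    intro a ha b hb
    have h1 := pol_isom X hX (a + X *ᵥ a) (b - X *ᵥ b)
    rw [Matrix.mulVec_add, Matrix.mulVec_sub, hxx, hxx] at h1
    have h2' : X *ᵥ b - b = -(b - X *ᵥ b) := by abel
    rw [h2', pol_neg_right hQ, add_comm (X *ᵥ a) a] at h1
    have h3 : (2 : F) * QuadraticMap.polar Q (a + X *ᵥ a) (b - X *ᵥ b) = 0 := by
      linear_combination -h1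
    exact (mul_eq_zero.mp h3).resolve_left h2
  have hzero : ∀ a ∈ U, ∀ b ∈ U, QuadraticMap.polar Q a b = 0 := by
    intro a ha b hb
    have e1 := hpp a ha b hb
    have e2 := hmm a ha b hb
    have e3 := hpm a ha b hb
    have e4 := hpm b hb a ha
    rw [pol_comm] at e4
    rw [pol_add_left hQ, pol_add_right hQ, pol_add_right hQ] at e1
    rw [pol_sub_left hQ, pol_sub_right hQ, pol_sub_right hQ] at e2
    rw [pol_add_left hQ, pol_sub_right hQ, pol_sub_right hQ] at e3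
    rw [pol_sub_left hQ, pol_add_right hQ, pol_add_right hQ] at e4
    have h4 : (2 : F) * (2 * QuadraticMap.polar Q a b) = 0 := by
      linear_combination e1 + e2 + e3 + e4
    exact (mul_eq_zero.mp ((mul_eq_zero.mp h4).resolve_left h2)).resolve_left h2
  obtain ⟨w, hw, hw0⟩ := Submodule.exists_mem_ne_zero_of_ne_bot hU
  obtain ⟨⟨y, hy, hne⟩, _⟩ := hN w hw hw0
  exact hne (hzero y hy w hw)

/-- Peel off one eigenvector. -/
theorem peel_one (hPerp : PkgPerp.{u}) (hQ : Cfsg.Geo.IsNondegenerateQuadraticForm Q)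
    (h2 : (2 : F) ≠ 0) (X : Matrix ι ι F) (hX : ∀ v, Q (X *ᵥ v) = Q v) (hXX : X * X = 1)
    (U : Submodule F (ι → F)) (hI : Helper23.OHyp.Inv X U) (hN : Nd Q U) (hU : U ≠ ⊥) :
    ∃ w ∈ U, Q w ≠ 0 ∧ (X *ᵥ w = w ∨ X *ᵥ w = -w) ∧ ∃ U' : Submodule F (ι → F), U' ≤ U ∧
      Helper23.OHyp.Inv X U' ∧ Nd Q U' ∧ (∀ v ∈ U', QuadraticMap.polar Q w v = 0) ∧
      Module.finrank F U = 1 + Module.finrank F U' := by
  obtain ⟨w, hwU, hw, he⟩ := exists_eigen hQ h2 X hX hXX U hI hN hU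
  obtain ⟨hLI, hLN, hLd⟩ := line_facts hQ h2 X hw he
  have hdet : IsUnit X.det := by
    have : X.det * X.det = 1 := by rw [← Matrix.det_mul, hXX, Matrix.det_one]
    exact IsUnit.of_mul_eq_one _ this
  obtain ⟨U', hU'U, hU'I, hU'N, hperp, -, hdim⟩ := hPerp F ι Q hQ X hX hdet U
    (Submodule.span F {w}) ((Submodule.span_singleton_le_iff_mem w U).mpr hwU) hI hLI hN hLN
  exact ⟨w, hwU, hw, he, U', hU'U, hU'I, hU'N,
    fun v hv => hperp w (Submodule.mem_span_singleton_self w) v hv, by rw [hdim, hLd]⟩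

end basics

section finite

variable {F : Type u} [Field F] [Fintype F] {ι : Type} [Fintype ι] [DecidableEq ι]
  {Q : (ι → F) → F}

/-- Invariant nondegenerate subspaces of every smaller dimension. -/
theorem peel_many (hPerp : PkgPerp.{u}) (hSum : PkgSum.{u})
    (hQ : Cfsg.Geo.IsNondegenerateQuadraticForm Q)
    (h2 : (2 : F) ≠ 0) (X : Matrix ι ι F) (hX : ∀ v, Q (X *ᵥ v) = Q v) (hXX : X * X = 1) :
    ∀ (k : ℕ) (U : Submodule F (ι → F)), Helper23.OHyp.Inv X U → Nd Q U → k ≤ Module.finrank F U →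
      ∃ U' : Submodule F (ι → F), U' ≤ U ∧ Helper23.OHyp.Inv X U' ∧ Nd Q U' ∧ Module.finrank F U' = k := by
  intro k
  induction k with
  | zero =>
    intro U _ _ _
    exact ⟨⊥, bot_le, inv_bot X, nd_bot, finrank_bot F _⟩
  | succ k ih =>
    intro U hI hN hk
    have hU : U ≠ ⊥ := by
      rintro rfl
      rw [finrank_bot] at hk
      omega
    obtain ⟨w, hwU, hw, he, U', hU'U, hU'I, hU'N, hperp, hdim⟩ :=
      peel_one hPerp hQ h2 X hX hXX U hI hN hU
    obtain ⟨U'', hle, hI'', hN'', hd''⟩ := ih U' hU'I hU'N (by omega)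
    obtain ⟨hLI, hLN, hLd⟩ := line_facts hQ h2 X hw he
    have hP : Perp Q (Submodule.span F {w}) U'' := by
      intro a ha b hb
      obtain ⟨c, rfl⟩ := Submodule.mem_span_singleton.mp ha
      rw [pol_smul_left hQ, hperp b (hle hb), mul_zero]
    obtain ⟨hNs, hds, -⟩ := hSum F ι Q hQ h2 _ _ hLN hN'' hP
    refine ⟨Submodule.span F {w} ⊔ U'',
      sup_le ((Submodule.span_singleton_le_iff_mem w U).mpr hwU) (hle.trans hU'U),
      inv_sup hLI hI'', hNs, ?_⟩
    rw [hds, hLd, hd'']; omega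

/-- The construction: `A` of even dimension, `u` and the universal plane `span {y₁, y₂}`. -/
theorem invol_core (hSum : PkgSum.{u}) (hQ : Cfsg.Geo.IsNondegenerateQuadraticForm Q)
    (h2 : (2 : F) ≠ 0) (X : Matrix ι ι F)
    (w y₁ y₂ : ι → F) (hu : Q w ≠ 0) (hy₁ : Q y₁ ≠ 0) (hy₂ : Q y₂ ≠ 0)
    (huy₁ : QuadraticMap.polar Q w y₁ = 0) (huy₂ : QuadraticMap.polar Q w y₂ = 0)
    (hyy : QuadraticMap.polar Q y₁ y₂ = 0)
    (heu : X *ᵥ w = w ∨ X *ᵥ w = -w)
    (hey : (X *ᵥ y₁ = y₁ ∧ X *ᵥ y₂ = y₂) ∨ (X *ᵥ y₁ = -y₁ ∧ X *ᵥ y₂ = -y₂))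
    (A : Submodule F (ι → F)) (hAI : Helper23.OHyp.Inv X A) (hAN : Nd Q A)
    (hAe : Even (Module.finrank F A))
    (hAu : ∀ a ∈ A, QuadraticMap.polar Q a w = 0)
    (hAy₁ : ∀ a ∈ A, QuadraticMap.polar Q a y₁ = 0)
    (hAy₂ : ∀ a ∈ A, QuadraticMap.polar Q a y₂ = 0) :
    ∃ W : Submodule F (ι → F), Module.finrank F W = Module.finrank F A + 2 ∧ Nd Q W ∧
      Plus Q W ∧ Helper23.OHyp.Inv X W := by
  classical
  have hchar : ringChar F ≠ 2 := by
    intro h
    apply h2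
    have := ringChar.Nat.cast_ringChar (R := F)
    rw [h] at this
    exact_mod_cast this
  have huniv : ∀ c : F, ∃ s t : F, s ^ 2 * Q y₁ + t ^ 2 * Q y₂ = c := by
    intro c
    have hcard : Fintype.card F % 2 = 1 := FiniteField.odd_card_of_char_ne_two hchar
    have hf : (Polynomial.C (Q y₁) * Polynomial.X ^ 2 : Polynomial F).degree = 2 := by
      rw [Polynomial.degree_C_mul_X_pow 2 hy₁]; rfl
    have hg : (Polynomial.C (Q y₂) * Polynomial.X ^ 2 - Polynomial.C c : Polynomial F).degree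
        = 2 := by
      rw [Polynomial.degree_sub_eq_left_of_degree_lt]
      · rw [Polynomial.degree_C_mul_X_pow 2 hy₂]; rfl
      · rw [Polynomial.degree_C_mul_X_pow 2 hy₂]
        exact lt_of_le_of_lt Polynomial.degree_C_le (by norm_num)
    obtain ⟨s, t, hst⟩ := FiniteField.exists_root_sum_quadratic hf hg hcard
    refine ⟨s, t, ?_⟩
    simp only [Polynomial.eval_mul, Polynomial.eval_C, Polynomial.eval_pow, Polynomial.eval_X,
      Polynomial.eval_sub] at hst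
    linear_combination hst
  obtain ⟨ν, hν⟩ := FiniteField.exists_nonsquare hchar
  obtain ⟨c, hc0, hcP⟩ : ∃ c : F, c ≠ 0 ∧
      ((∃ k : F, k ≠ 0 ∧ c = -(k ^ 2 * Q w)) ↔ Plus Q A) := by
    by_cases hA : Plus Q A
    · exact ⟨-(1 ^ 2 * Q w), by simpa using hu, ⟨fun _ => hA, fun _ => ⟨1, one_ne_zero, rfl⟩⟩⟩
    · have hν0 : ν ≠ 0 := by
        rintro rfl
        exact hν ⟨0, by simp⟩
      refine ⟨-(ν * Q w), neg_ne_zero.mpr (mul_ne_zero hν0 hu),
        ⟨fun ⟨k, hk, hkc⟩ => ?_, fun h => absurd h hA⟩⟩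
      exfalso
      apply hν
      refine ⟨k, ?_⟩
      have h1 : ν * Q w = k ^ 2 * Q w := by linear_combination -hkc
      have h3 := mul_right_cancel₀ hu h1
      rw [h3]; ring
  obtain ⟨s, t, hst⟩ := huniv c
  obtain ⟨v, hvdef⟩ : ∃ v : ι → F, v = s • y₁ + t • y₂ := ⟨_, rfl⟩
  have hQv : Q v = c := by
    rw [hvdef, Q_add Q, hQ.smul, hQ.smul, pol_smul_left hQ, pol_smul_right hQ, hyy]
    linear_combination hst
  have hv : Q v ≠ 0 := by rw [hQv]; exact hc0
  have huv : QuadraticMap.polar Q w v = 0 := by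
    rw [hvdef, pol_add_right hQ, pol_smul_right hQ, pol_smul_right hQ, huy₁, huy₂]; ring
  have hev : X *ᵥ v = v ∨ X *ᵥ v = -v := by
    rcases hey with ⟨e1, e2⟩ | ⟨e1, e2⟩
    · left
      rw [hvdef, Matrix.mulVec_add, Matrix.mulVec_smul, Matrix.mulVec_smul, e1, e2]
    · right
      rw [hvdef, Matrix.mulVec_add, Matrix.mulVec_smul, Matrix.mulVec_smul, e1, e2, smul_neg,
        smul_neg, neg_add]
  have hAv : ∀ a ∈ A, QuadraticMap.polar Q a v = 0 := by
    intro a ha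
    rw [hvdef, pol_add_right hQ, pol_smul_right hQ, pol_smul_right hQ, hAy₁ a ha, hAy₂ a ha]
    ring
  obtain ⟨hLuI, hLuN, hLud⟩ := line_facts hQ h2 X hu heu
  obtain ⟨hLvI, hLvN, hLvd⟩ := line_facts hQ h2 X hv hev
  have hPuv : Perp Q (Submodule.span F {w}) (Submodule.span F {v}) := by
    intro a ha b hb
    obtain ⟨c1, rfl⟩ := Submodule.mem_span_singleton.mp ha
    obtain ⟨c2, rfl⟩ := Submodule.mem_span_singleton.mp hb
    rw [pol_smul_left hQ, pol_smul_right hQ, huv]; ring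
  obtain ⟨hPN, hPd, -⟩ := hSum F ι Q hQ h2 _ _ hLuN hLvN hPuv
  have hPd2 : Module.finrank F ↥(Submodule.span F {w} ⊔ Submodule.span F {v}) = 2 := by
    rw [hPd, hLud, hLvd]
  have hAP : Perp Q A (Submodule.span F {w} ⊔ Submodule.span F {v}) := by
    intro a ha b hb
    obtain ⟨b1, hb1, b2, hb2, rfl⟩ := Submodule.mem_sup.mp hb
    obtain ⟨c1, rfl⟩ := Submodule.mem_span_singleton.mp hb1
    obtain ⟨c2, rfl⟩ := Submodule.mem_span_singleton.mp hb2
    rw [pol_add_right hQ, pol_smul_right hQ, pol_smul_right hQ, hAu a ha, hAv a ha]; ring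
  obtain ⟨hWN, hWd, hWP⟩ := hSum F ι Q hQ h2 _ _ hAN hPN hAP
  have hPP : Plus Q (Submodule.span F {w} ⊔ Submodule.span F {v}) ↔ Plus Q A := by
    rw [← hcP]
    constructor
    · rintro ⟨U, hUP, hUts, hUd⟩
      rw [hPd2] at hUd
      have hUne : U ≠ ⊥ := by
        rintro rfl
        rw [finrank_bot] at hUd
        omega
      obtain ⟨z, hzU, hz0⟩ := Submodule.exists_mem_ne_zero_of_ne_bot hUne
      obtain ⟨b1, hb1, b2, hb2, hzeq⟩ := Submodule.mem_sup.mp (hUP hzU)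
      obtain ⟨c1, rfl⟩ := Submodule.mem_span_singleton.mp hb1
      obtain ⟨c2, rfl⟩ := Submodule.mem_span_singleton.mp hb2
      have hQz := hUts z hzU
      rw [← hzeq, Q_add Q, hQ.smul, hQ.smul, pol_smul_left hQ, pol_smul_right hQ, huv, hQv] at hQz
      have hc2 : c2 ≠ 0 := by
        rintro rfl
        have h1 : c1 ^ 2 * Q w = 0 := by linear_combination hQz
        have hc1 : c1 = 0 := by
          rcases mul_eq_zero.mp h1 with h | h
          · exact (pow_eq_zero_iff two_ne_zero).mp h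
          · exact absurd h hu
        apply hz0
        rw [← hzeq, hc1]; simp
      have hc1 : c1 ≠ 0 := by
        rintro rfl
        have h1 : c2 ^ 2 * c = 0 := by linear_combination hQz
        rcases mul_eq_zero.mp h1 with h | h
        · exact hc2 ((pow_eq_zero_iff two_ne_zero).mp h)
        · exact hc0 h
      refine ⟨c1 / c2, div_ne_zero hc1 hc2, ?_⟩
      field_simp
      linear_combination hQz
    · rintro ⟨k, hk, hkc⟩
      have hz0 : k • w + v ≠ 0 := by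
        intro h0
        have h1 : QuadraticMap.polar Q w (k • w + v) = 0 := by rw [h0]; exact pol_zero_right hQ w
        rw [pol_add_right hQ, pol_smul_right hQ, pol_self hQ, huv, add_zero] at h1
        exact hk ((mul_eq_zero.mp h1).resolve_right (mul_ne_zero h2 hu))
      refine ⟨Submodule.span F {k • w + v}, ?_, ?_, ?_⟩
      · rw [Submodule.span_singleton_le_iff_mem]
        exact Submodule.add_mem _
          (Submodule.mem_sup_left (Submodule.smul_mem _ _ (Submodule.mem_span_singleton_self w)))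
          (Submodule.mem_sup_right (Submodule.mem_span_singleton_self v))
      · intro z hz
        obtain ⟨a, rfl⟩ := Submodule.mem_span_singleton.mp hz
        rw [hQ.smul, Q_add Q, hQ.smul, pol_smul_left hQ, huv, hQv, hkc]; ring
      · rw [finrank_span_singleton hz0, hPd2]
  refine ⟨A ⊔ (Submodule.span F {w} ⊔ Submodule.span F {v}), by rw [hWd, hPd2], hWN, ?_,
    inv_sup hAI (inv_sup hLuI hLvI)⟩
  rw [hWP hAe (by rw [hPd2]; exact even_two)]
  exact hPP.symm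

end finite

/-- Package [INVOL] from [PERP] and [SUM]. -/
theorem pkgInvol_of (hPerp : PkgPerp.{u}) (hSum : PkgSum.{u}) : PkgInvol.{u} := by
  intro F _ _ ι _ _ Q hQ h2 x hx hx2 m hm hmn hn3
  have hX : ∀ v, Q ((x : Matrix ι ι F) *ᵥ v) = Q v := fun v => hx v v
  have hXX : (x : Matrix ι ι F) * (x : Matrix ι ι F) = 1 := by
    rw [← Units.val_mul, ← pow_two, hx2]; rfl
  rcases Nat.eq_zero_or_pos m with rfl | hmpos
  · exact ⟨⊥, ⟨finrank_bot F _, nd_bot, plus_bot hQ⟩, inv_bot _⟩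
  have hm2 : 2 ≤ m := by
    obtain ⟨k, rfl⟩ := hm
    omega
  have htop : Module.finrank F (⊤ : Submodule F (ι → F)) = Fintype.card ι := by
    rw [finrank_top, Module.finrank_fintype_fun_eq_card]
  have hNtop : Nd Q (⊤ : Submodule F (ι → F)) := fun w _ hw0 => by
    obtain ⟨⟨a, ha⟩, ⟨b, hb⟩⟩ := hQ.nondegenerate w hw0
    exact ⟨⟨a, Submodule.mem_top, ha⟩, ⟨b, Submodule.mem_top, hb⟩⟩
  obtain ⟨w₁, -, hw₁, he₁, U₁, -, hU₁I, hU₁N, hp₁, hd₁⟩ :=
    peel_one hPerp hQ h2 _ hX hXX ⊤ (inv_top _) hNtop (by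
      intro h
      rw [h, finrank_bot] at htop
      omega)
  obtain ⟨w₂, hw₂U, hw₂, he₂, U₂, hU₂U, hU₂I, hU₂N, hp₂, hd₂⟩ :=
    peel_one hPerp hQ h2 _ hX hXX U₁ hU₁I hU₁N (by
      rintro rfl
      rw [finrank_bot] at hd₁
      omega)
  obtain ⟨w₃, hw₃U, hw₃, he₃, U₃, hU₃U, hU₃I, hU₃N, hp₃, hd₃⟩ :=
    peel_one hPerp hQ h2 _ hX hXX U₂ hU₂I hU₂N (by
      rintro rfl
      rw [finrank_bot] at hd₂
      omega)
  obtain ⟨A, hAU, hAI, hAN, hAd⟩ :=
    peel_many hPerp hSum hQ h2 _ hX hXX (m - 2) U₃ hU₃I hU₃N (by omega)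
  have h12 : QuadraticMap.polar Q w₁ w₂ = 0 := hp₁ w₂ hw₂U
  have h13 : QuadraticMap.polar Q w₁ w₃ = 0 := hp₁ w₃ (hU₂U hw₃U)
  have h23 : QuadraticMap.polar Q w₂ w₃ = 0 := hp₂ w₃ hw₃U
  have h21 : QuadraticMap.polar Q w₂ w₁ = 0 := by rw [pol_comm]; exact h12
  have h31 : QuadraticMap.polar Q w₃ w₁ = 0 := by rw [pol_comm]; exact h13
  have h32 : QuadraticMap.polar Q w₃ w₂ = 0 := by rw [pol_comm]; exact h23
  have hA1 : ∀ a ∈ A, QuadraticMap.polar Q a w₁ = 0 := fun a ha => by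
    rw [pol_comm]; exact hp₁ a (hU₂U (hU₃U (hAU ha)))
  have hA2 : ∀ a ∈ A, QuadraticMap.polar Q a w₂ = 0 := fun a ha => by
    rw [pol_comm]; exact hp₂ a (hU₃U (hAU ha))
  have hA3 : ∀ a ∈ A, QuadraticMap.polar Q a w₃ = 0 := fun a ha => by
    rw [pol_comm]; exact hp₃ a (hAU ha)
  have hAe : Even (Module.finrank F A) := by
    rw [hAd]
    obtain ⟨k, rfl⟩ := hm
    exact ⟨k - 1, by omega⟩
  have key : ∃ W : Submodule F (ι → F), Module.finrank F W = Module.finrank F A + 2 ∧ Nd Q W ∧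
      Plus Q W ∧ Helper23.OHyp.Inv (x : Matrix ι ι F) W := by
    have he₁' := he₁
    have he₂' := he₂
    have he₃' := he₃
    rcases he₁ with e1 | e1 <;> rcases he₂ with e2 | e2 <;> rcases he₃ with e3 | e3
    · exact invol_core hSum hQ h2 _ w₃ w₁ w₂ hw₃ hw₁ hw₂ h31 h32 h12 he₃' (Or.inl ⟨e1, e2⟩) A hAI
        hAN hAe hA3 hA1 hA2
    · exact invol_core hSum hQ h2 _ w₃ w₁ w₂ hw₃ hw₁ hw₂ h31 h32 h12 he₃' (Or.inl ⟨e1, e2⟩) A hAI
        hAN hAe hA3 hA1 hA2
    · exact invol_core hSum hQ h2 _ w₂ w₁ w₃ hw₂ hw₁ hw₃ h21 h23 h13 he₂' (Or.inl ⟨e1, e3⟩) A hAI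
        hAN hAe hA2 hA1 hA3
    · exact invol_core hSum hQ h2 _ w₁ w₂ w₃ hw₁ hw₂ hw₃ h12 h13 h23 he₁' (Or.inr ⟨e2, e3⟩) A hAI
        hAN hAe hA1 hA2 hA3
    · exact invol_core hSum hQ h2 _ w₁ w₂ w₃ hw₁ hw₂ hw₃ h12 h13 h23 he₁' (Or.inl ⟨e2, e3⟩) A hAI
        hAN hAe hA1 hA2 hA3
    · exact invol_core hSum hQ h2 _ w₂ w₁ w₃ hw₂ hw₁ hw₃ h21 h23 h13 he₂' (Or.inr ⟨e1, e3⟩) A hAI
        hAN hAe hA2 hA1 hA3
    · exact invol_core hSum hQ h2 _ w₃ w₁ w₂ hw₃ hw₁ hw₂ h31 h32 h12 he₃' (Or.inr ⟨e1, e2⟩) A hAI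
        hAN hAe hA3 hA1 hA2
    · exact invol_core hSum hQ h2 _ w₃ w₁ w₂ hw₃ hw₁ hw₂ h31 h32 h12 he₃' (Or.inr ⟨e1, e2⟩) A hAI
        hAN hAe hA3 hA1 hA2
  obtain ⟨W, hWd, hWN, hWP, hWI⟩ := key
  exact ⟨W, ⟨by rw [hWd, hAd]; omega, hWN, hWP⟩, hWI⟩

end Cfsg.Agent.Lib.Helper52.OHyp
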